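import Mathlib
import Groth.Agent.RelDivLib.H1Quasi

/-!
# Appending an `H₁`-regular sequence to a quasi-regular one
-/

set_option autoImplicit false
universe u

open MvPolynomial

noncomputable section

namespace Groth.Agent.QAppendLib

variable {A : Type u} [CommRing A] {n m : ℕ} (f : Fin n → A) (g : Fin m → A)

/-- A form in the `f`-variables with coefficients forms in the `g`-variables. -/
abbrev Bi (A : Type u) [CommRing A] (n m : ℕ) := MvPolynomial (Fin n) (MvPolynomial (Fin m) A)

/-- Evaluation. -/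
def ev : Bi A n m →+* A := (eval f).comp (MvPolynomial.map (eval g))

theorem ev_monomial (α : Fin n →₀ ℕ) (G : MvPolynomial (Fin m) A) :
    ev f g (monomial α G) = eval g G * α.prod fun i k => f i ^ k := by
  simp [ev, eval_monomial]

/-- Bihomogeneous of total degree `N`, of degree at least `s` in the first variables. -/
def Ok (N s : ℕ) (P : Bi A n m) : Prop :=
  ∀ α, P.coeff α ≠ 0 → s ≤ α.degree ∧ α.degree ≤ N ∧ (P.coeff α).IsHomogeneous (N - α.degree)

/-- All coefficients are in `J`. -/
def CoeffIn (J : Ideal A) (P : Bi A n m) : Prop := ∀ α β, (P.coeff α).coeff β ∈ J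

theorem exists_lift (hg : CAlgX.IsH1Regular (fun j => Ideal.Quotient.mk (Ideal.span (Set.range f)) (g j))) (d : ℕ)
    (G : MvPolynomial (Fin m) A) (hG : G.IsHomogeneous (d + 1)) (hv : eval g G ∈ Ideal.span (Set.range f)) :
    (∀ β, G.coeff β ∈ Ideal.span (Set.range f) ⊔ Ideal.span (Set.range g)) ∧
      eval g G ∈ Ideal.span (Set.range f) * Ideal.span (Set.range g) ^ (d + 1) := by
  classical
  let I := Ideal.span (Set.range f)
  let π := Ideal.Quotient.mk I
  have h0 : eval (fun j => π (g j)) (MvPolynomial.map π G) = 0 := by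
    rw [eval_map, show (fun j => π (g j)) = π ∘ g from rfl, ← eval₂_comp]
    exact Ideal.Quotient.eq_zero_iff_mem.mpr hv
  have hm := RelDivLib.mem_trivRel_of_eval_eq_zero hg d _ (hG.map π) h0
  have hlift : ∃ W : MvPolynomial (Fin m) A, MvPolynomial.map π W = MvPolynomial.map π G ∧ eval g W = 0 ∧
      W.IsHomogeneous (d + 1) ∧ ∀ β, W.coeff β ∈ Ideal.span (Set.range g) := by
    generalize MvPolynomial.map π G = Y at hm
    induction hm using Submodule.span_induction with
    | mem y hy =>
      obtain ⟨e, i, j, he, rfl⟩ := hy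
      refine ⟨C (g j) * (monomial e 1 * X i) - C (g i) * (monomial e 1 * X j), ?_, ?_, ?_, fun β => ?_⟩
      · simp [π, I]
      · simp [eval_monomial]; ring
      · exact (((isHomogeneous_monomial _ he).mul (isHomogeneous_X A i)).C_mul _).sub
          (((isHomogeneous_monomial _ he).mul (isHomogeneous_X A j)).C_mul _)
      · rw [coeff_sub, coeff_C_mul, coeff_C_mul]
        exact sub_mem (Ideal.mul_mem_right _ _ (Ideal.subset_span ⟨j, rfl⟩)) (Ideal.mul_mem_right _ _ (Ideal.subset_span ⟨i, rfl⟩))
    | zero => exact ⟨0, map_zero _, map_zero _, isHomogeneous_zero _ _ _, fun β => by simp⟩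
    | add y z _ _ hy hz =>
      obtain ⟨W, hW, hW0, hWh, hWc⟩ := hy
      obtain ⟨V, hV, hV0, hVh, hVc⟩ := hz
      exact ⟨W + V, by rw [map_add, hW, hV], by rw [map_add, hW0, hV0, add_zero], hWh.add hVh, fun β => by
        rw [coeff_add]; exact add_mem (hWc β) (hVc β)⟩
    | smul r y _ hy =>
      obtain ⟨r, rfl⟩ := Ideal.Quotient.mk_surjective r
      obtain ⟨W, hW, hW0, hWh, hWc⟩ := hy
      exact ⟨C r * W, by rw [map_mul, hW, map_C, smul_eq_C_mul], by rw [map_mul, hW0, mul_zero], hWh.C_mul r, fun β => by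
        rw [coeff_C_mul]; exact Ideal.mul_mem_left _ _ (hWc β)⟩
  obtain ⟨W, hW, hW0, hWh, hWc⟩ := hlift
  have hc : ∀ β, G.coeff β - W.coeff β ∈ I := fun β => by
    rw [← Ideal.Quotient.eq_zero_iff_mem, map_sub, ← coeff_map, ← coeff_map, hW, sub_self]
  refine ⟨fun β => ?_, ?_⟩
  · have := add_mem (Submodule.mem_sup_left (hc β)) (Submodule.mem_sup_right (hWc β) : W.coeff β ∈ I ⊔ _)
    simpa using this
  · have := QRegLib.eval_mem_mul_pow g I Set.univ (d + 1) (G - W) (hG.sub hWh) (QRegLib.suppIn_univ _)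
      fun β => by rw [coeff_sub]; exact hc β
    rwa [Set.image_univ, map_sub, hW0, sub_zero] at this

theorem exists_rewrite (d : ℕ) {y : A} (hy : y ∈ Ideal.span (Set.range f) * Ideal.span (Set.range g) ^ (d + 1)) :
    ∃ U : Bi A n m, (∀ α, U.coeff α ≠ 0 → α.degree = 1 ∧ (U.coeff α).IsHomogeneous d) ∧
      CoeffIn (Ideal.span (Set.range f) ⊔ Ideal.span (Set.range g)) U ∧ ev f g U = y := by
  classical
  rw [pow_succ, ← mul_assoc] at hy
  refine Submodule.mul_induction_on hy (fun z hz w hw => ?_) (fun a b ha hb => ?_)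
  · refine Submodule.mul_induction_on hz (fun a ha b hb => ?_) (fun a b ha hb => ?_)
    · obtain ⟨r, rfl⟩ := (Submodule.mem_span_range_iff_exists_fun A).mp ha
      obtain ⟨Yb, hY, -, rfl⟩ := QRegLib.exists_poly_of_mem_pow g Set.univ d b (by rwa [Set.image_univ])
      refine ⟨∑ k, monomial (Finsupp.single k 1) (C (r k * w) * Yb), fun α hα => ?_, fun α β => ?_, ?_⟩
      · rw [coeff_sum] at hα ⊢
        obtain ⟨k, -, hk⟩ := Finset.exists_ne_zero_of_sum_ne_zero hα
        rw [coeff_monomial] at hk
        have hke : Finsupp.single k 1 = α := by by_contra hc; rw [if_neg hc] at hk; exact hk rfl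
        refine ⟨by rw [← hke, Finsupp.degree_single], IsHomogeneous.sum _ _ _ fun l _ => ?_⟩
        rw [coeff_monomial]; split_ifs
        · exact hY.C_mul _
        · exact isHomogeneous_zero _ _ _
      · rw [coeff_sum, coeff_sum]
        refine sum_mem fun k _ => ?_
        rw [coeff_monomial]; split_ifs
        · rw [coeff_C_mul]
          exact Ideal.mul_mem_right _ _ (Ideal.mul_mem_left _ _ (Submodule.mem_sup_right hw))
        · rw [coeff_zero]; exact zero_mem _
      · simp only [map_sum, ev_monomial, Finsupp.prod_single_index, pow_zero, pow_one, map_mul, eval_C,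
          Finset.sum_mul, smul_eq_mul]
        exact Finset.sum_congr rfl fun k _ => by ring
    · obtain ⟨U, hU, hUJ, hUe⟩ := ha
      obtain ⟨V, hV, hVJ, hVe⟩ := hb
      refine ⟨U + V, fun α hα => ?_, fun α β => by rw [coeff_add, coeff_add]; exact add_mem (hUJ α β) (hVJ α β),
        by rw [map_add, hUe, hVe, add_mul]⟩
      by_cases hu : U.coeff α = 0
      · rw [coeff_add, hu, zero_add] at hα ⊢; exact hV α hα
      · refine ⟨(hU α hu).1, ?_⟩
        rw [coeff_add]
        by_cases hv : V.coeff α = 0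
        · rw [hv, add_zero]; exact (hU α hu).2
        · exact (hU α hu).2.add (hV α hv).2
  · obtain ⟨U, hU, hUJ, hUe⟩ := ha
    obtain ⟨V, hV, hVJ, hVe⟩ := hb
    refine ⟨U + V, fun α hα => ?_, fun α β => by rw [coeff_add, coeff_add]; exact add_mem (hUJ α β) (hVJ α β),
      by rw [map_add, hUe, hVe]⟩
    by_cases hu : U.coeff α = 0
    · rw [coeff_add, hu, zero_add] at hα ⊢; exact hV α hα
    · refine ⟨(hU α hu).1, ?_⟩
      rw [coeff_add]
      by_cases hv : V.coeff α = 0
      · rw [hv, add_zero]; exact (hU α hu).2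
      · exact (hU α hu).2.add (hV α hv).2

theorem coeffIn_of_ev_eq_zero (hf : CAlgX.IsQuasiRegular f)
    (hg : CAlgX.IsH1Regular (fun j => Ideal.Quotient.mk (Ideal.span (Set.range f)) (g j))) (N : ℕ) :
    ∀ (e s : ℕ), s + e = N + 1 → ∀ P : Bi A n m, Ok N s P → ev f g P = 0 →
      CoeffIn (Ideal.span (Set.range f) ⊔ Ideal.span (Set.range g)) P := by
  classical
  intro e
  induction e with
  | zero =>
    intro s hs P hP _ α β
    have : P.coeff α = 0 := by
      by_contra hc
      obtain ⟨h1, h2, -⟩ := hP α hc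
      omega
    rw [this, coeff_zero]; exact zero_mem _
  | succ e ih =>
    intro s hs P hP hev
    let I := Ideal.span (Set.range f)
    let G := fun α => P.coeff α
    let T := P.support.filter fun α => α.degree = s
    let T' := P.support.filter fun α => ¬ α.degree = s
    have hsplit : P = (∑ α ∈ T, monomial α (G α)) + ∑ α ∈ T', monomial α (G α) := by
      conv_lhs => rw [P.as_sum]
      rw [Finset.sum_filter_add_sum_filter_not]
    have hT : ∀ α ∈ T, α.degree = s ∧ (G α).IsHomogeneous (N - s) ∧ s ≤ N := fun α hα => by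
      obtain ⟨h1, h2⟩ := Finset.mem_filter.mp hα
      obtain ⟨-, h4, h5⟩ := hP α (mem_support_iff.mp h1)
      exact ⟨h2, h2 ▸ h5, h2 ▸ h4⟩
    have hprod : ∀ α : Fin n →₀ ℕ, (α.prod fun i k => f i ^ k) ∈ I ^ α.degree := fun α => by
      rw [Finsupp.degree_apply, ← Finset.prod_pow_eq_pow_sum]
      exact Ideal.prod_mem_prod fun i _ => Ideal.pow_mem_pow (Ideal.subset_span ⟨i, rfl⟩ : f i ∈ I) _
    let Q : MvPolynomial (Fin n) A := ∑ α ∈ T, monomial α (eval g (G α))
    have hQ : Q.IsHomogeneous s := IsHomogeneous.sum _ _ _ fun α hα => isHomogeneous_monomial _ (hT α hα).1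
    have hQv : eval f Q ∈ I ^ (s + 1) := by
      have h1 : eval f Q = ev f g (∑ α ∈ T, monomial α (G α)) := by simp [Q, map_sum, ev_monomial, eval_monomial]
      rw [hsplit, map_add] at hev
      rw [h1, eq_neg_of_add_eq_zero_left hev, map_sum]
      refine neg_mem (sum_mem fun α hα => ?_)
      obtain ⟨h1, h2⟩ := Finset.mem_filter.mp hα
      have h3 := (hP α (mem_support_iff.mp h1)).1
      rw [ev_monomial]
      exact Ideal.mul_mem_left _ _ (Ideal.pow_le_pow_right (show s + 1 ≤ α.degree by omega) (hprod α))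
    have hGI : ∀ α ∈ T, eval g (G α) ∈ I := fun α hα => by
      have := hf s Q hQ hQv α
      rwa [show Q.coeff α = eval g (G α) from by
        simp only [Q, coeff_sum, coeff_monomial, Finset.sum_ite_eq', hα, if_true]] at this
    by_cases hsN : N ≤ s
    · intro α β
      by_cases hc : P.coeff α = 0
      · rw [hc, coeff_zero]; exact zero_mem _
      obtain ⟨h1, h2, h3⟩ := hP α hc
      have hαT : α ∈ T := Finset.mem_filter.mpr ⟨mem_support_iff.mpr hc, by omega⟩
      have h4 := hGI α hαT
      rw [show N - α.degree = 0 by omega] at h3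
      have h5 : G α = C (coeff 0 (G α)) := totalDegree_eq_zero_iff_eq_C.1 ((totalDegree_zero_iff_isHomogeneous _).2 h3)
      rw [h5, eval_C] at h4
      show (G α).coeff β ∈ _
      rw [h5, coeff_C]
      split_ifs
      · exact Submodule.mem_sup_left h4
      · exact zero_mem _
    obtain ⟨d, hd⟩ : ∃ d, N - s = d + 1 := ⟨N - s - 1, by omega⟩
    have hl : ∀ α ∈ T, (∀ β, (G α).coeff β ∈ I ⊔ Ideal.span (Set.range g)) ∧
        eval g (G α) ∈ I * Ideal.span (Set.range g) ^ (d + 1) := fun α hα =>
      exists_lift f g hg d (G α) (hd ▸ (hT α hα).2.1) (hGI α hα)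
    have hU' : ∀ α : T, ∃ U : Bi A n m, (∀ γ, U.coeff γ ≠ 0 → γ.degree = 1 ∧ (U.coeff γ).IsHomogeneous d) ∧
        CoeffIn (I ⊔ Ideal.span (Set.range g)) U ∧ ev f g U = eval g (G α) := fun α => exists_rewrite f g d (hl α α.2).2
    choose U hU hUJ hUe using hU'
    let R : Bi A n m := ∑ α ∈ T.attach, monomial α.1 1 * U α
    let P' : Bi A n m := R + ∑ α ∈ T', monomial α (G α)
    have hev' : ev f g P' = 0 := by
      rw [← hev]
      conv_rhs => rw [hsplit]
      simp only [P', R, map_add, map_sum, map_mul, ev_monomial, map_one, one_mul, hUe]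
      rw [← Finset.sum_attach T]
      congr 1
      exact Finset.sum_congr rfl fun α _ => mul_comm _ _
    have hRok : Ok N (s + 1) R := fun γ hγ => by
      have hterm : ∀ α : T, (monomial α.1 1 * U α).coeff γ ≠ 0 → γ.degree = s + 1 ∧
          ((monomial α.1 1 * U α).coeff γ).IsHomogeneous d := fun α hα => by
        rw [coeff_monomial_mul', one_mul] at hα ⊢
        split_ifs at hα ⊢ with hle
        · obtain ⟨h1, h2⟩ := hU α _ hα
          refine ⟨?_, h2⟩
          rw [← add_tsub_cancel_of_le hle, map_add, h1, (hT α.1 α.2).1]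
        · exact absurd rfl hα
      rw [coeff_sum] at hγ ⊢
      obtain ⟨α, -, hα⟩ := Finset.exists_ne_zero_of_sum_ne_zero hγ
      have hdeg := (hterm α hα).1
      refine ⟨by omega, by omega, IsHomogeneous.sum _ _ _ fun α' _ => ?_⟩
      by_cases h0 : (monomial α'.1 1 * U α').coeff γ = 0
      · rw [h0]; exact isHomogeneous_zero _ _ _
      · rw [show N - γ.degree = d by omega]; exact (hterm α' h0).2
    have hhi : ∀ γ, (∑ α ∈ T', monomial α (G α)).coeff γ = if γ ∈ T' then G γ else 0 := fun γ => by
      simp only [coeff_sum, coeff_monomial, Finset.sum_ite_eq']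
    have hP' : Ok N (s + 1) P' := fun γ hγ => by
      rw [coeff_add] at hγ ⊢
      rw [hhi] at hγ ⊢
      by_cases hT' : γ ∈ T'
      · rw [if_pos hT'] at hγ ⊢
        obtain ⟨h1, h2⟩ := Finset.mem_filter.mp hT'
        obtain ⟨h3, h4, h5⟩ := hP γ (mem_support_iff.mp h1)
        refine ⟨by omega, h4, ?_⟩
        by_cases hR : R.coeff γ = 0
        · rw [hR, zero_add]; exact h5
        · exact (hRok γ hR).2.2.add h5
      · rw [if_neg hT', add_zero] at hγ ⊢; exact hRok γ hγ
    have hres := ih (s + 1) (by omega) P' hP' hev'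
    intro α β
    by_cases hc : P.coeff α = 0
    · rw [hc, coeff_zero]; exact zero_mem _
    by_cases hαs : α.degree = s
    · exact (hl α (Finset.mem_filter.mpr ⟨mem_support_iff.mpr hc, hαs⟩)).1 β
    have hRJ : (R.coeff α).coeff β ∈ I ⊔ Ideal.span (Set.range g) := by
      simp only [R, coeff_sum]
      refine sum_mem fun a _ => ?_
      rw [coeff_monomial_mul', one_mul]; split_ifs
      · exact hUJ a _ β
      · rw [coeff_zero]; exact zero_mem _
    have h := hres α β
    rw [coeff_add, hhi, if_pos (Finset.mem_filter.mpr ⟨mem_support_iff.mpr hc, hαs⟩), coeff_add] at h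
    simpa using sub_mem h hRJ

/-- The first block of an exponent. -/
def left (d : Fin (n + m) →₀ ℕ) : Fin n →₀ ℕ := Finsupp.equivFunOnFinite.symm fun i => d (Fin.castAdd m i)

/-- The second block of an exponent. -/
def right (d : Fin (n + m) →₀ ℕ) : Fin m →₀ ℕ := Finsupp.equivFunOnFinite.symm fun i => d (Fin.natAdd n i)

theorem degree_eq (d : Fin (n + m) →₀ ℕ) : d.degree = (left d).degree + (right d).degree := by
  simp [Finsupp.degree_eq_sum, Fin.sum_univ_add, left, right]

theorem isQuasiRegular_append (hf : CAlgX.IsQuasiRegular f)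
    (hg : CAlgX.IsH1Regular (fun j => Ideal.Quotient.mk (Ideal.span (Set.range f)) (g j))) :
    CAlgX.IsQuasiRegular (Fin.append f g) := by
  classical
  intro N P hP hv d
  have hspan : Ideal.span (Set.range (Fin.append f g)) = Ideal.span (Set.range f) ⊔ Ideal.span (Set.range g) := by
    rw [← Ideal.span_union]
    congr 1
    ext x
    constructor
    · rintro ⟨i, rfl⟩
      refine Fin.addCases (fun i => Or.inl ⟨i, (Fin.append_left f g i).symm⟩) (fun i => Or.inr ⟨i, (Fin.append_right f g i).symm⟩) i
    · rintro (⟨i, rfl⟩ | ⟨i, rfl⟩)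
      exacts [⟨_, Fin.append_left f g i⟩, ⟨_, Fin.append_right f g i⟩]
  refine QRegLib.coeff_mem_of_eval_mem (Fin.append f g) ⊥ (Ideal.span (Set.range (Fin.append f g))) Set.univ N
    (by rw [Set.image_univ]) (fun P hP _ h0 d => ?_) P hP (QRegLib.suppIn_univ P)
    (by rw [Set.image_univ, bot_sup_eq]; exact hv) d
  rw [Ideal.mem_bot] at h0
  let Φ : Bi A n m := ∑ e ∈ P.support, monomial (left e) (monomial (right e) (P.coeff e))
  have hdeg : ∀ e ∈ P.support, (left e).degree + (right e).degree = N := fun e he => by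
    rw [← degree_eq]; exact (hP.degree_eq_sum_deg_support he).symm
  have hok : Ok N 0 Φ := fun α hα => by
    rw [coeff_sum] at hα ⊢
    obtain ⟨e, he, hne⟩ := Finset.exists_ne_zero_of_sum_ne_zero hα
    rw [coeff_monomial] at hne
    have hle : left e = α := by by_contra hc; rw [if_neg hc] at hne; exact hne rfl
    have := hdeg e he
    rw [hle] at this
    refine ⟨Nat.zero_le _, by omega, IsHomogeneous.sum _ _ _ fun e' he' => ?_⟩
    rw [coeff_monomial]; split_ifs with h
    · exact isHomogeneous_monomial _ (by have := hdeg e' he'; rw [h] at this; omega)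
    · exact isHomogeneous_zero _ _ _
  have hev : ev f g Φ = 0 := by
    rw [← h0, eval_eq', map_sum]
    refine Finset.sum_congr rfl fun e _ => ?_
    rw [ev_monomial, eval_monomial, Finsupp.prod_fintype _ _ (fun i => pow_zero _),
      Finsupp.prod_fintype _ _ (fun i => pow_zero _), Fin.prod_univ_add]
    simp [left, right, Fin.append_left, Fin.append_right]
    ring
  have h := coeffIn_of_ev_eq_zero f g hf hg N (N + 1) 0 (by omega) Φ hok hev (left d) (right d)
  rw [coeff_sum, coeff_sum, Finset.sum_eq_single d (fun e _ hne => ?_) (fun hd => ?_), coeff_monomial, if_pos rfl,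
    coeff_monomial, if_pos rfl] at h
  · rw [hspan]; exact h
  · rw [coeff_monomial]; split_ifs with h1
    · rw [coeff_monomial, if_neg]
      intro h2
      refine hne (Finsupp.ext fun i => Fin.addCases (fun j => ?_) (fun j => ?_) i)
      · exact DFunLike.congr_fun h1 j
      · exact DFunLike.congr_fun h2 j
    · rw [coeff_zero]
  · rw [notMem_support_iff.mp hd]; simp

end Groth.Agent.QAppendLib
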